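import Cfsg.Agent.Lib.Char.Convolution
import Cfsg.Agent.Lib.Char.Complete
import Cfsg.Agent.Lib.Char.Integral
import Cfsg.Agent.Lib.Blocks.Center
import Cfsg.Agent.Lib.Char.ExtensionChar

/-!
# An element at which every non-vanishing non-principal character drops by four
-/

set_option linter.style.haveILetI false
set_option linter.unusedSectionVars false

namespace Cfsg.Agent.DiffFour

open Cfsg Cfsg.Agent.Char Cfsg.Agent.Blocks
open scoped ComplexConjugate Classical

universe u
variable {G : Type u} [Group G] [Fintype G]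

/-- The hypothesis of the classification. -/
def Hyp (u : G) : Prop :=
  u ≠ 1 ∧ ∀ χ : IrrCharacter G, (χ : G → ℂ) ≠ (fun _ => (1 : ℂ)) →
    ((χ : G → ℂ) 1 - (χ : G → ℂ) u = 4 ∨ (χ : G → ℂ) u = 0)

variable {u : G}

theorem value (h : Hyp u) {χ : IrrCharacter G} (hχ : (χ : G → ℂ) ≠ fun _ => (1 : ℂ))
    (h0 : (χ : G → ℂ) u ≠ 0) : (χ : G → ℂ) u = (charDegree (χ : G → ℂ) : ℂ) - 4 := by
  have h1 := (h.2 χ hχ).resolve_right h0
  rw [irr_one_eq_charDegree] at h1
  linear_combination -h1

theorem no_linear (h : Hyp u) {χ : IrrCharacter G} (hd : charDegree (χ : G → ℂ) = 1) :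
    (χ : G → ℂ) = fun _ => (1 : ℂ) := by
  by_contra hne
  obtain ⟨f, hf⟩ := exists_hom_of_degree_one (irr_isCharacter χ) (by
    rw [irr_one_eq_charDegree, hd, Nat.cast_one])
  have hf' : ∀ g, (χ : G → ℂ) g = (f g : ℂ) := fun g => congrFun hf g
  have h0 : (χ : G → ℂ) u ≠ 0 := by rw [hf']; exact (f u).ne_zero
  have hv := value h hne h0
  rw [hd, hf', Nat.cast_one] at hv
  have hn : ‖(f u : ℂ)‖ = 1 := norm_eq_one_of_pow (Nat.card_pos (α := G)).ne' (by
    rw [← Units.val_pow_eq_pow_val, ← map_pow, pow_card_eq_one', map_one, Units.val_one])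
  rw [hv] at hn
  norm_num at hn

theorem perfect (h : Hyp u) : commutator G = ⊤ := by
  rw [← Subgroup.index_eq_one, ← card_linear]
  refine Nat.card_eq_one_iff_unique.2 ⟨⟨fun a b => Subtype.ext (Subtype.ext ?_)⟩, ⟨principal G, rfl⟩⟩
  have hd : ∀ c : {χ : IrrCharacter G // (χ : G → ℂ) 1 = 1}, charDegree (c.1 : G → ℂ) = 1 :=
    fun c => by
      have := c.2
      rw [irr_one_eq_charDegree] at this
      exact_mod_cast this
  exact (no_linear h (hd a)).trans (no_linear h (hd b)).symm

theorem no_two (h : Hyp u) {χ : IrrCharacter G} (hd : charDegree (χ : G → ℂ) = 2)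
    (h0 : (χ : G → ℂ) u ≠ 0) : False := by
  have hne : (χ : G → ℂ) ≠ fun _ => (1 : ℂ) := fun e => by
    rw [charDegree, e] at hd
    simp at hd
  have hv := value h hne h0
  rw [hd] at hv
  set φ : G → ℂ := (χ : G → ℂ) * (χ : G → ℂ) with hφ
  have hφc : IsCharacter G φ := IsCharacter.mul (irr_isCharacter χ) (irr_isCharacter χ)
  obtain ⟨m, hm⟩ := IsCharacter.exists_decomp hφc
  have hat : ∀ g, φ g = ∑ ψ, (m ψ : ℂ) * (ψ : G → ℂ) g := fun g => by
    rw [hm]
    simp [Finset.sum_apply, smul_eq_mul]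
  -- the multiplicity of the principal character
  have h1 : m (principal G) ≤ 1 := by
    have e1 : Cfsg.classInner φ (principal G : G → ℂ) = (m (principal G) : ℂ) := by
      rw [hm, classInner_combination]
    have e2 : Cfsg.classInner φ (principal G : G → ℂ) =
        Cfsg.classInner (χ : G → ℂ) (fun g => conj ((χ : G → ℂ) g)) := by
      simp only [Cfsg.classInner, hφ, principal, Pi.mul_apply, map_one, mul_one, Complex.conj_conj]
    have hc : IsIrrCharacter G (fun g => conj ((χ : G → ℂ) g)) := by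
      refine IsCharacter.isIrr_of_norm_one (IsCharacter.conj (irr_isCharacter χ)) ?_
      have h11 := classInner_self_irr χ.2
      simp only [Cfsg.classInner, Complex.conj_conj] at h11 ⊢
      rw [← h11]
      congr 1
      exact Finset.sum_congr rfl fun g _ => mul_comm _ _
    rw [e2, classInner_irr χ.2 hc] at e1
    split_ifs at e1
    · exact le_of_eq (by exact_mod_cast e1.symm)
    · have : m (principal G) = 0 := by exact_mod_cast e1.symm
      omega
  -- degrees
  have hdeg : ∑ ψ, m ψ * charDegree (ψ : G → ℂ) = 4 := by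
    have e := hat 1
    simp only [hφ, Pi.mul_apply, irr_one_eq_charDegree, hd] at e
    norm_num at e
    exact_mod_cast e.symm
  have hre : ∀ ψ, ψ ≠ principal G → ((m ψ : ℂ) * (ψ : G → ℂ) u).re ≤ 0 := by
    intro ψ hψ
    rcases Nat.eq_zero_or_pos (m ψ) with hz | hp
    · simp [hz]
    have hψ1 : (ψ : G → ℂ) ≠ fun _ => (1 : ℂ) := fun e => hψ (Subtype.ext e)
    rcases eq_or_ne ((ψ : G → ℂ) u) 0 with hz | hnz
    · simp [hz]
    rw [value h hψ1 hnz]
    have hle : charDegree (ψ : G → ℂ) ≤ 4 := by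
      refine le_trans ?_ (hdeg ▸ Finset.single_le_sum
        (f := fun ψ => m ψ * charDegree (ψ : G → ℂ)) (fun _ _ => Nat.zero_le _) (Finset.mem_univ ψ))
      exact Nat.le_mul_of_pos_left _ hp
    simp only [Complex.mul_re, Complex.natCast_re, Complex.natCast_im, zero_mul, sub_zero,
      Complex.sub_re, Complex.re_ofNat]
    refine mul_nonpos_of_nonneg_of_nonpos (Nat.cast_nonneg _) ?_
    rw [sub_nonpos]
    exact_mod_cast hle
  have e := congrArg Complex.re (hat u)
  rw [Complex.re_sum, ← Finset.add_sum_erase _ _ (Finset.mem_univ (principal G))] at e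
  have hrest := Finset.sum_nonpos (s := Finset.univ.erase (principal G))
    (f := fun ψ => ((m ψ : ℂ) * (ψ : G → ℂ) u).re) fun ψ hψ => hre ψ (Finset.ne_of_mem_erase hψ)
  have hp : ((m (principal G) : ℂ) * (principal G : G → ℂ) u).re = (m (principal G) : ℝ) := by
    simp [principal]
  rw [hp] at e
  have hp1 : (m (principal G) : ℝ) ≤ 1 := by exact_mod_cast h1
  simp only [hφ, Pi.mul_apply, show (χ : G → ℂ) u = -2 by rw [hv]; norm_num] at e
  generalize (Finset.univ.erase (principal G)).sum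
    (fun ψ => ((m ψ : ℂ) * (ψ : G → ℂ) u).re) = R at e hrest
  norm_num at e
  linarith

/-- The characters, other than the principal one, not vanishing at `u`. -/
noncomputable def supp (u : G) : Finset (IrrCharacter G) :=
  Finset.univ.filter fun χ : IrrCharacter G => (χ : G → ℂ) ≠ (fun _ => (1 : ℂ)) ∧ (χ : G → ℂ) u ≠ 0

theorem mem_supp {χ : IrrCharacter G} :
    χ ∈ supp u ↔ (χ : G → ℂ) ≠ (fun _ => (1 : ℂ)) ∧ (χ : G → ℂ) u ≠ 0 := by
  simp [supp]

theorem sum_eq_supp (F : IrrCharacter G → ℂ) (hF : ∀ χ : IrrCharacter G, (χ : G → ℂ) u = 0 → F χ = 0) :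
    ∑ χ, F χ = F (principal G) + ∑ χ ∈ supp u, F χ := by
  rw [← Finset.add_sum_erase _ _ (Finset.mem_univ (principal G))]
  congr 1
  refine (Finset.sum_subset ?_ ?_).symm
  · intro χ hχ
    rw [mem_supp] at hχ
    exact Finset.mem_erase.2 ⟨fun e => hχ.1 (congrArg Subtype.val e), Finset.mem_univ _⟩
  · intro χ hχ hnot
    refine hF χ (by_contra fun h0 => hnot (mem_supp.2 ⟨fun e => ?_, h0⟩))
    exact (Finset.mem_erase.1 hχ).1 (Subtype.ext e)

theorem degree_cases (h : Hyp u) {χ : IrrCharacter G} (hχ : χ ∈ supp u) :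
    charDegree (χ : G → ℂ) = 3 ∨ 5 ≤ charDegree (χ : G → ℂ) := by
  rw [mem_supp] at hχ
  have h1 : charDegree (χ : G → ℂ) ≠ 1 := fun e => hχ.1 (no_linear h e)
  have h2 : charDegree (χ : G → ℂ) ≠ 2 := fun e => no_two h e hχ.2
  have h4 : charDegree (χ : G → ℂ) ≠ 4 := fun e => hχ.2 (by
    rw [value h hχ.1 hχ.2, e]
    norm_num)
  have := charDegree_pos χ
  omega

/-- A character of degree three with value `-1`, and the order of the centraliser. -/
theorem main (h : Hyp u) :
    (∃ χ : IrrCharacter G, charDegree (χ : G → ℂ) = 3 ∧ (χ : G → ℂ) u = -1) ∧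
      Nat.card (Subgroup.centralizer ({u} : Set G)) = 4 := by
  set d : IrrCharacter G → ℚ := fun χ => (charDegree (χ : G → ℂ) : ℚ) with hd
  have hv : ∀ χ ∈ supp u, (χ : G → ℂ) u = ((d χ - 4 : ℚ) : ℂ) := by
    intro χ hχ
    rw [value h (mem_supp.1 hχ).1 (mem_supp.1 hχ).2, hd]
    push_cast
    ring
  have h1 : ∀ χ : IrrCharacter G, (χ : G → ℂ) 1 = ((d χ : ℚ) : ℂ) := fun χ => by
    rw [irr_one_eq_charDegree, hd]
    push_cast
    rfl
  -- orthogonality with the identity
  have horth : ∑ χ ∈ supp u, d χ * (d χ - 4) = -1 := by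
    have e := column_orth_of_not_isConj (G := G) (g := u) (h := 1)
      (fun hc => h.1 (isConj_one_left.1 hc))
    rw [sum_eq_supp _ (fun χ hχ => by rw [hχ, zero_mul]), Finset.sum_congr rfl (g := fun χ =>
      (((d χ * (d χ - 4) : ℚ)) : ℂ)) fun χ hχ => by
        rw [hv χ hχ, h1, map_ratCast]; push_cast; ring] at e
    simp only [principal, map_one, mul_one] at e
    rw [← Rat.cast_sum] at e
    have e' : ((∑ χ ∈ supp u, d χ * (d χ - 4) : ℚ) : ℂ) = ((-1 : ℚ) : ℂ) := by
      push_cast at e ⊢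
      linear_combination e
    exact_mod_cast e'
  -- the number of commutator representations
  have hcomm : -1 ≤ ∑ χ ∈ supp u, (d χ - 4) / d χ := by
    have e := CharX.card_commutator_eq (G := G) u
    rw [sum_eq_supp _ (fun χ hχ => by rw [hχ, zero_div]), Finset.sum_congr rfl (g := fun χ =>
      ((((d χ - 4) / d χ : ℚ)) : ℂ)) fun χ hχ => by
        rw [hv χ hχ, h1]; push_cast; ring] at e
    simp only [principal, div_one] at e
    rw [← Rat.cast_sum] at e
    set N := Nat.card {xy : G × G // xy.1 * xy.2 * xy.1⁻¹ * xy.2⁻¹ = u}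
    have e' : ((N : ℚ) : ℂ) = (((Nat.card G : ℚ) * (1 + ∑ χ ∈ supp u, (d χ - 4) / d χ) : ℚ) : ℂ) := by
      push_cast at e ⊢
      exact e
    have e'' : (N : ℚ) = (Nat.card G : ℚ) * (1 + ∑ χ ∈ supp u, (d χ - 4) / d χ) :=
      Rat.cast_injective e'
    have hN : (0 : ℚ) ≤ N := Nat.cast_nonneg _
    have hG : (0 : ℚ) < Nat.card G := by exact_mod_cast (Nat.card_pos (α := G))
    nlinarith
  -- the degrees
  set B := (supp u).filter fun χ : IrrCharacter G => ¬ charDegree (χ : G → ℂ) = 3 with hB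
  set A := (supp u).filter fun χ : IrrCharacter G => charDegree (χ : G → ℂ) = 3 with hA
  have hA3 : ∀ χ ∈ A, d χ = 3 := fun χ hχ => by
    simp [hd, (Finset.mem_filter.1 hχ).2]
  have hB5 : ∀ χ ∈ B, 5 ≤ d χ := fun χ hχ => by
    obtain ⟨h3, h4⟩ := Finset.mem_filter.1 hχ
    simp only [hd]
    exact_mod_cast (degree_cases h h3).resolve_left h4
  set f : IrrCharacter G → ℚ := fun χ => (d χ - 4) / d χ - d χ * (d χ - 4) / 9 with hf
  have hsum : -8 / 9 ≤ ∑ χ ∈ B, f χ := by
    have e : ∑ χ ∈ supp u, f χ = ∑ χ ∈ B, f χ := by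
      rw [← Finset.sum_filter_add_sum_filter_not (supp u) (fun χ : IrrCharacter G => charDegree (χ : G → ℂ) = 3),
        ← hA, ← hB, add_eq_right]
      refine Finset.sum_eq_zero fun χ hχ => ?_
      rw [hf]
      simp only [hA3 χ hχ]
      norm_num
    rw [← e, hf, Finset.sum_sub_distrib, ← Finset.sum_div, horth]
    linarith
  have hfB : ∀ χ ∈ B, f χ ≤ -16 / 45 := fun χ hχ => by
    have h5 := hB5 χ hχ
    rw [hf]
    simp only
    rw [div_sub_div _ _ (by linarith) (by norm_num), div_le_div_iff₀ (by linarith) (by norm_num)]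
    nlinarith [mul_nonneg (sub_nonneg.2 h5) (sq_nonneg (d χ)), mul_nonneg (sub_nonneg.2 h5)
      (sub_nonneg.2 h5)]
  have hB2 : B.card ≤ 2 := by
    by_contra hc
    have := Finset.sum_le_card_nsmul B f _ hfB
    rw [nsmul_eq_mul] at this
    have h3 : (3 : ℚ) ≤ B.card := by exact_mod_cast (show 3 ≤ B.card by omega)
    nlinarith
  have hBd : ∀ χ ∈ B, d χ = 5 := by
    intro χ hχ
    by_contra hne
    have h6 : 6 ≤ d χ := by
      have h5 : 5 ≤ charDegree (χ : G → ℂ) := by
        have := hB5 χ hχ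
        simp only [hd] at this
        exact_mod_cast this
      have : charDegree (χ : G → ℂ) ≠ 5 := fun e => hne (by simp [hd, e])
      simp only [hd]
      exact_mod_cast (show 6 ≤ charDegree (χ : G → ℂ) by omega)
    have h7 : f χ ≤ -1 := by
      rw [hf]
      simp only
      rw [div_sub_div _ _ (by linarith) (by norm_num), div_le_iff₀ (by linarith)]
      nlinarith [mul_nonneg (sub_nonneg.2 h6) (sq_nonneg (d χ)), mul_nonneg (sub_nonneg.2 h6)
        (sub_nonneg.2 h6)]
    rw [← Finset.add_sum_erase _ _ hχ] at hsum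
    have := Finset.sum_nonpos (s := B.erase χ) (f := f) fun ψ hψ => by
      have := hfB ψ (Finset.mem_of_mem_erase hψ)
      linarith
    linarith
  have hsplit : ∀ F : ℚ → ℚ, ∑ χ ∈ supp u, F (d χ) = (A.card : ℚ) * F 3 + (B.card : ℚ) * F 5 := by
    intro F
    rw [← Finset.sum_filter_add_sum_filter_not (supp u) (fun χ : IrrCharacter G => charDegree (χ : G → ℂ) = 3),
      ← hA, ← hB, Finset.sum_congr rfl (g := fun _ => F 3) fun χ hχ => by rw [hA3 χ hχ],
      Finset.sum_congr (s₁ := B) rfl (g := fun _ => F 5) fun χ hχ => by rw [hBd χ hχ],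
      Finset.sum_const, Finset.sum_const, nsmul_eq_mul, nsmul_eq_mul]
  have e1 := horth
  rw [hsplit fun x => x * (x - 4)] at e1
  have hcards : 3 * A.card = 1 + 5 * B.card := by
    have : (3 : ℚ) * A.card = 1 + 5 * B.card := by linarith
    exact_mod_cast this
  have hA2 : A.card = 2 := by omega
  have hB1 : B.card = 1 := by omega
  obtain ⟨χ, hχ⟩ := Finset.card_pos.1 (show 0 < A.card by omega)
  refine ⟨⟨χ, (Finset.mem_filter.1 hχ).2, ?_⟩, ?_⟩
  · rw [hv χ (Finset.mem_filter.1 hχ).1, hA3 χ hχ]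
    norm_num
  have e := column_orth_of_isConj (G := G) (IsConj.refl u)
  rw [sum_eq_supp _ (fun χ hχ => by rw [hχ, zero_mul]), Finset.sum_congr rfl (g := fun χ =>
      ((((d χ - 4) * (d χ - 4) : ℚ)) : ℂ)) fun χ hχ => by
        rw [hv χ hχ, map_ratCast]; push_cast; ring] at e
  simp only [principal, map_one, mul_one] at e
  rw [← Rat.cast_sum, hsplit fun x => (x - 4) * (x - 4), hA2, hB1] at e
  norm_num [Nat.card_eq_fintype_card] at e
  rw [Nat.card_eq_fintype_card]
  exact_mod_cast e.symm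

/-- The trace identity for the determinant in degree three. -/
theorem det_three (M : Matrix (Fin 3) (Fin 3) ℂ) :
    M.trace ^ 3 - 3 * M.trace * (M * M).trace + 2 * (M * M * M).trace = 6 * M.det := by
  simp [Matrix.det_fin_three, Matrix.trace_fin_three, Matrix.mul_apply, Fin.sum_univ_three]
  ring

/-- In a perfect group the characters of degree three have trivial determinant. -/
theorem newton {χ : IrrCharacter G} (hperf : commutator G = ⊤)
    (h3 : charDegree (χ : G → ℂ) = 3) (g : G) :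
    (χ : G → ℂ) g ^ 3 - 3 * (χ : G → ℂ) g * (χ : G → ℂ) (g * g) +
      2 * (χ : G → ℂ) (g * g * g) = 6 := by
  obtain ⟨n, ρ, hρ, hχ⟩ := χ.2
  have hn : n = 3 := by
    have e := irr_one_eq_charDegree χ
    rw [h3, ← hχ, Representation.char_one, Module.finrank_fin_fun] at e
    exact_mod_cast e
  subst hn
  have hdet : LinearMap.det (ρ g) = 1 := by
    have hle : commutator G ≤ (CharExtend.detHom ρ).ker := Abelianization.commutator_subset_ker _
    have hm : g ∈ (CharExtend.detHom ρ).ker := hle (hperf ▸ Subgroup.mem_top g)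
    rw [MonoidHom.mem_ker] at hm
    rw [← CharExtend.detHom_apply, hm, Units.val_one]
  have htr : ∀ x : G, (χ : G → ℂ) x = (LinearMap.toMatrix' (ρ x)).trace := fun x => by
    rw [← hχ, Representation.character, LinearMap.trace_eq_matrix_trace ℂ (Pi.basisFun ℂ (Fin 3))]
    rfl
  have h6 := det_three (LinearMap.toMatrix' (ρ g))
  rw [LinearMap.det_toMatrix', hdet, ← LinearMap.toMatrix'_mul, ← LinearMap.toMatrix'_mul,
    ← map_mul, ← map_mul, ← htr, ← htr, ← htr, mul_one] at h6
  exact h6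

end Cfsg.Agent.DiffFour
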