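import Cfsg.Agent.Lib.DiffFour.Chars
import Cfsg.Agent.Lib.Isolated.HSubgroup
import Cfsg.Agent.Lib.LinearBlock.MonThree
import Cfsg.Agent.S3277
import Cfsg.Agent.S3378
import Cfsg.Agent.S0253
import Mathlib.GroupTheory.FixedPointFree

/-!
# The group theory of the classification
-/

set_option linter.style.haveILetI false
set_option linter.unusedSectionVars false

namespace Cfsg.Agent.DiffFour

open Subgroup
open scoped Classical

universe u
variable {G : Type u} [Group G] [Finite G]

theorem mem_cent {g h : G} : h ∈ centralizer ({g} : Set G) ↔ h * g = g * h :=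
  mem_centralizer_singleton_iff

theorem self_mem_cent (g : G) : g ∈ centralizer ({g} : Set G) := mem_cent.2 rfl

/-- Counting the conjugates of `u` under `P` inside a coset of `K`. -/
theorem orbit_in_coset {u : G} (P K : Subgroup G) (hC : centralizer ({u} : Set G) ≤ P)
    (h : ∀ g ∈ P, u⁻¹ * (g * u * g⁻¹) ∈ K) :
    Nat.card P ≤ Nat.card (centralizer ({u} : Set G)) * Nat.card K ∧
      (Nat.card P = Nat.card (centralizer ({u} : Set G)) * Nat.card K →
        ∀ k ∈ K, ∃ g ∈ P, g * u * g⁻¹ = u * k) := by
  set C := centralizer ({u} : Set G) with hCdef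
  let f : P ⧸ C.subgroupOf P → K := fun q =>
    ⟨u⁻¹ * ((q.out : G) * u * (q.out : G)⁻¹), h _ q.out.2⟩
  have hf : Function.Injective f := by
    intro a b hab
    have e : (a.out : G) * u * (a.out : G)⁻¹ = (b.out : G) * u * (b.out : G)⁻¹ :=
      mul_left_cancel (congrArg Subtype.val hab)
    rw [← QuotientGroup.out_eq' a, ← QuotientGroup.out_eq' b]
    refine QuotientGroup.eq.2 (mem_subgroupOf.2 ?_)
    show ((a.out⁻¹ * b.out : P) : G) ∈ centralizer ({u} : Set G)
    rw [Subgroup.coe_mul, Subgroup.coe_inv, mem_cent]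
    calc (a.out : G)⁻¹ * b.out * u = (a.out : G)⁻¹ * ((b.out : G) * u * (b.out : G)⁻¹) * b.out := by
          group
      _ = _ := by rw [← e]; group
  have hcard : Nat.card P = Nat.card C * (C.subgroupOf P).index := by
    rw [← Subgroup.card_mul_index (C.subgroupOf P),
      Nat.card_congr (subgroupOfEquivOfLe hC).toEquiv]
  have hle : (C.subgroupOf P).index ≤ Nat.card K := Nat.card_le_card_of_injective f hf
  refine ⟨hcard ▸ Nat.mul_le_mul_left _ hle, fun heq k hk => ?_⟩
  have hsur : Function.Surjective f := by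
    refine (hf.bijective_of_nat_card_le ?_).2
    rw [hcard] at heq
    exact le_of_eq (Nat.eq_of_mul_eq_mul_left Nat.card_pos heq).symm
  obtain ⟨q, hq⟩ := hsur ⟨k, hk⟩
  refine ⟨q.out, q.out.2, ?_⟩
  rw [← show u⁻¹ * ((q.out : G) * u * (q.out : G)⁻¹) = k from congrArg Subtype.val hq]
  group

/-- An element squaring into the centraliser and fixed point free on an odd subgroup inverts it. -/
theorem inverts (W : Subgroup G) (x : G) (hW : ∀ w ∈ W, x * w * x⁻¹ ∈ W)
    (h2 : ∀ w ∈ W, x * x * w = w * (x * x)) (hfix : ∀ w ∈ W, x * w * x⁻¹ = w → w = 1) :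
    (∀ w ∈ W, x * w * x⁻¹ = w⁻¹) ∧ IsMulCommutative W := by
  let φ : W →* W :=
    { toFun := fun w => ⟨x * w * x⁻¹, hW _ w.2⟩
      map_one' := Subtype.ext (by simp)
      map_mul' := fun a b => Subtype.ext (by simp [mul_assoc]) }
  have hφ : MonoidHom.FixedPointFree φ := fun w hw =>
    Subtype.ext (hfix _ w.2 (congrArg Subtype.val hw))
  have hinv : Function.Involutive φ := fun w => Subtype.ext (by
    show x * (x * w * x⁻¹) * x⁻¹ = (w : G)
    calc x * (x * w * x⁻¹) * x⁻¹ = x * x * w * (x * x)⁻¹ := by group
      _ = _ := by rw [h2 _ w.2]; group)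
  refine ⟨fun w hw => ?_, ⟨⟨fun a b => hφ.commute_all_of_involutive hinv a b⟩⟩⟩
  exact congrArg Subtype.val (congrFun (hφ.coe_eq_inv_of_involutive hinv) ⟨w, hw⟩)

/-- A perfect group with an involution whose centraliser has order at most four and with no
central involution is `A₅`, and that centraliser is a four-group. -/
theorem equiv_a5 {H : Type u} [Group H] [Finite H] (hperf : commutator H = ⊤) (h : H)
    (hh : orderOf h = 2) (hC : Nat.card (centralizer ({h} : Set H)) ≤ 4)
    (hZ : ∀ z : H, (∀ g, g * z = z * g) → z * z = 1 → z = 1) :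
    Nonempty (H ≃* alternatingGroup (Fin 5)) ∧
      Nat.card (centralizer ({h} : Set H)) = 4 ∧
      ∀ c ∈ centralizer ({h} : Set H), c ^ 2 = 1 := by
  haveI : Fact (Nat.Prime 2) := ⟨Nat.prime_two⟩
  set C := centralizer ({h} : Set H) with hCdef
  have hh1 : h ≠ 1 := fun e => by rw [e, orderOf_one] at hh; norm_num at hh
  have hh2 : h * h = 1 := by rw [← sq, ← hh, pow_orderOf_eq_one]
  have h2dvd : 2 ∣ Nat.card H := hh ▸ orderOf_dvd_natCard h
  have hnc : ¬ Cfsg.HasNormalPComplement 2 H := by
    rintro ⟨P, N, hN, hcompl⟩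
    haveI := hN
    by_cases hNt : N = ⊤
    · have := hcompl.card_mul
      rw [hNt, card_top] at this
      have hP1 : Nat.card (P : Subgroup H) = 1 := by
        nlinarith [Nat.card_pos (α := H)]
      have h4 := Sylow.card_eq_multiplicity P
      rw [hP1] at h4
      have h5 : 0 < (Nat.card H).factorization 2 :=
        Nat.prime_two.factorization_pos_of_dvd Nat.card_pos.ne' h2dvd
      have := Nat.one_lt_two_pow h5.ne'
      omega
    · haveI : Nontrivial (H ⧸ N) := Finite.one_lt_card_iff_nontrivial.1
        (one_lt_index_of_ne_top hNt)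
      have hp : IsPGroup 2 (H ⧸ N) := IsPGroup.of_card (n := (Nat.card H).factorization 2) (by
        rw [← Subgroup.index_eq_card, ← Sylow.card_eq_multiplicity P]
        exact hcompl.symm.index_eq_card)
      haveI := hp.isNilpotent
      haveI : Group.IsSolvable (H ⧸ N) := inferInstance
      have hlt := Group.IsSolvable.commutator_lt_top_of_nontrivial (H ⧸ N)
      refine hlt.ne ?_
      rw [eq_top_iff]
      intro q _
      obtain ⟨g, rfl⟩ := QuotientGroup.mk_surjective q
      have hg : g ∈ commutator H := hperf ▸ mem_top g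
      have hmap : (commutator H).map (QuotientGroup.mk' N) ≤ commutator (H ⧸ N) := by
        rw [commutator_def, map_commutator, commutator_def]
        exact commutator_mono le_top le_top
      exact hmap ⟨g, hg, rfl⟩
  -- the centraliser is a four-group
  have hsq : ∀ c ∈ C, c ^ 2 = 1 ∧ Nat.card C = 4 := by
    by_contra hcon
    refine hnc ?_
    have hcyc : IsCyclic C := by
      have hhC : h ∈ C := self_mem_cent h
      have hev : 2 ∣ Nat.card C := hh ▸ C.orderOf_dvd_natCard hhC
      have h0 : 0 < Nat.card C := Nat.card_pos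
      rcases (show Nat.card C = 2 ∨ Nat.card C = 4 by omega) with e | e
      · exact isCyclic_of_prime_card e
      · push Not at hcon
        obtain ⟨c, hc, hc'⟩ := hcon
        have hc2 : c ^ 2 ≠ 1 := fun e' => hc' e' e
        have hdvd : orderOf c ∣ 2 ^ 2 := by
          have := C.orderOf_dvd_natCard hc
          rwa [e] at this
        obtain ⟨i, hi, hord⟩ := (Nat.dvd_prime_pow Nat.prime_two).1 hdvd
        have hord4 : orderOf c = 4 := by
          interval_cases i
          · exact absurd (show c ^ 2 = 1 by
              have h1 : c = 1 := orderOf_eq_one_iff.1 (by simpa using hord)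
              rw [h1, one_pow]) hc2
          · exact absurd (show c ^ 2 = 1 by
              have h1 : orderOf c = 2 := by simpa using hord
              rw [← h1, pow_orderOf_eq_one]) hc2
          · simpa using hord
        exact isCyclic_of_orderOf_eq_card (⟨c, hc⟩ : C) (by rw [e, Subgroup.orderOf_mk, hord4])
    obtain ⟨S, hS⟩ := (IsPGroup.of_card (n := 1) (by
      rw [Nat.card_zpowers, hh, pow_one]) : IsPGroup 2 (zpowers h)).exists_le_sylow
    haveI : Nontrivial (S : Subgroup H) := ⟨⟨⟨h, hS (mem_zpowers h)⟩, 1, fun e =>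
      hh1 (congrArg Subtype.val e)⟩⟩
    haveI := S.2.center_nontrivial
    obtain ⟨⟨z, hz⟩, hzord⟩ := exists_prime_orderOf_dvd_card' (G := center (S : Subgroup H)) 2 (by
      obtain ⟨n, hn, e⟩ := (S.2.to_subgroup (center (S : Subgroup H))).nontrivial_iff_card.1
        inferInstance
      rw [e]
      exact dvd_pow_self 2 hn.ne')
    rw [Subgroup.orderOf_mk] at hzord
    have hzord' : orderOf (z : H) = 2 := by rw [Subgroup.orderOf_coe, hzord]
    have hzc : ∀ s ∈ (S : Subgroup H), s * (z : H) = (z : H) * s := fun s hs =>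
      congrArg Subtype.val (mem_center_iff.1 hz ⟨s, hs⟩)
    have hzC : (z : H) ∈ C := mem_cent.2 (hzc h (hS (mem_zpowers h))).symm
    have hzh : (z : H) = h := by
      haveI := Fintype.ofFinite C
      haveI := hcyc
      have hdv : 2 ∣ Fintype.card C := by
        rw [← Nat.card_eq_fintype_card, ← hh]
        exact C.orderOf_dvd_natCard (self_mem_cent h)
      have e := IsCyclic.card_orderOf_eq_totient (α := C) hdv
      rw [show Nat.totient 2 = 1 from rfl, Finset.card_eq_one] at e
      obtain ⟨a, ha⟩ := e
      have h1 : (⟨(z : H), hzC⟩ : C) ∈ Finset.univ.filter fun x : C => orderOf x = 2 := by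
        simp [Subgroup.orderOf_mk, hzord']
      have h2 : (⟨h, self_mem_cent h⟩ : C) ∈ Finset.univ.filter fun x : C => orderOf x = 2 := by
        simp [Subgroup.orderOf_mk, hh]
      rw [ha, Finset.mem_singleton] at h1 h2
      exact congrArg Subtype.val (h1.trans h2.symm)
    have hSC : (S : Subgroup H) ≤ C := fun s hs => mem_cent.2 (hzh ▸ hzc s hs)
    haveI := hcyc
    haveI : IsCyclic (S : Subgroup H) :=
      isCyclic_of_injective (Subgroup.inclusion hSC) (Subgroup.inclusion_injective hSC)
    exact HSub.hasNormalPComplement_of_cyclic S fun q hq _ => hq.two_le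
  have hC4 : Nat.card C = 4 := (hsq h (self_mem_cent h)).2
  refine ⟨?_, hC4, fun c hc => (hsq c hc).1⟩
  refine S3277.result h hh hC4 (fun c hc => (hsq c hc).1) hnc ?_
  intro E hE hel
  rw [← not_or]
  intro hcard
  haveI := hE
  let α := {e : E // e ≠ 1}
  haveI : Fintype E := Fintype.ofFinite E
  haveI : Fintype α := Fintype.ofFinite α
  have hα : Nat.card α ≤ 3 := by
    have h1 : Nat.card α = Nat.card E - 1 := by
      rw [Nat.card_eq_fintype_card, Fintype.card_subtype_compl, Nat.card_eq_fintype_card,
        Fintype.card_subtype_eq]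
    omega
  let f : H →* Equiv.Perm α :=
    { toFun := fun g => (MulAut.conjNormal g : MulAut E).toEquiv.subtypeEquiv fun e => by simp
      map_one' := by
        refine Equiv.ext fun e => Subtype.ext ?_
        simp
      map_mul' := fun a b => by
        refine Equiv.ext fun e => Subtype.ext ?_
        simp }
  have hker : ∀ g : H, f g = 1 := by
    have hsign : ∀ g, Equiv.Perm.sign (f g) = 1 := fun g => by
      have hle := Abelianization.commutator_subset_ker (Equiv.Perm.sign.comp f)
      exact MonoidHom.mem_ker.1 (hle (hperf ▸ mem_top g))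
    let f' : H →* alternatingGroup α := f.codRestrict _ fun g =>
      Equiv.Perm.mem_alternatingGroup.2 (hsign g)
    haveI : IsMulCommutative (alternatingGroup α) := by
      have h3 : Nat.card (alternatingGroup α) ≤ 3 := by
        rcases subsingleton_or_nontrivial α with hs | hs
        · have : Nat.card (alternatingGroup α) ≤ 1 := Finite.card_le_one_iff_subsingleton.2 inferInstance
          omega
        · rw [nat_card_alternatingGroup]
          have := Nat.factorial_le hα
          rw [show Nat.factorial 3 = 6 from rfl] at this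
          omega
      rcases (show Nat.card (alternatingGroup α) = 1 ∨ Nat.card (alternatingGroup α) = 2 ∨
          Nat.card (alternatingGroup α) = 3 by
        have := Nat.card_pos (α := alternatingGroup α); omega) with e | e | e
      · haveI := (Nat.card_eq_one_iff_unique.1 e).1
        exact ⟨⟨fun _ _ => Subsingleton.elim _ _⟩⟩
      · haveI : Fact (Nat.Prime 2) := ⟨Nat.prime_two⟩
        haveI := isCyclic_of_prime_card e
        exact ⟨⟨fun a b => IsCyclic.commGroup.mul_comm a b⟩⟩
      · haveI : Fact (Nat.Prime 3) := ⟨Nat.prime_three⟩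
        haveI := isCyclic_of_prime_card e
        exact ⟨⟨fun a b => IsCyclic.commGroup.mul_comm a b⟩⟩
    intro g
    have hle : commutator H ≤ f'.ker := by
      rw [_root_.commutator_def, commutator_le]
      intro a _ b _
      rw [MonoidHom.mem_ker, map_commutatorElement, commutatorElement_eq_one_iff_mul_comm]
      exact mul_comm' _ _
    have := hle (hperf ▸ mem_top g)
    exact congrArg Subtype.val (MonoidHom.mem_ker.1 this)
  have hnt : 1 < Nat.card E := by rcases hcard with e | e <;> omega
  haveI : Nontrivial E := Finite.one_lt_card_iff_nontrivial.1 hnt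
  obtain ⟨e, he⟩ := exists_ne (1 : E)
  refine he (Subtype.ext (hZ _ (fun g => ?_) ?_))
  · have h1 := congrArg (fun p : Equiv.Perm α => ((p ⟨e, he⟩ : α) : E)) (hker g)
    have h2 : g * (e : H) * g⁻¹ = (e : H) := congrArg Subtype.val h1
    exact mul_inv_eq_iff_eq_mul.1 h2
  · rw [← sq]
    exact hel.2 _ e.2

theorem a5_invol_conj : ∀ a : alternatingGroup (Fin 5), a * a = 1 → a ≠ 1 →
    ∀ b : alternatingGroup (Fin 5), b * b = 1 → b ≠ 1 → IsConj a b := by
  let a0 : alternatingGroup (Fin 5) := ⟨Equiv.swap 0 1 * Equiv.swap 2 3,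
    Equiv.Perm.mem_alternatingGroup.2 (by decide +kernel)⟩
  have key : ∀ a : alternatingGroup (Fin 5), a * a = 1 → a ≠ 1 → ∃ c, c * a0 * c⁻¹ = a := by
    decide +kernel
  intro a ha ha1 b hb hb1
  obtain ⟨c, hc⟩ := key a ha ha1
  obtain ⟨d, hd⟩ := key b hb hb1
  exact ((isConj_iff.2 ⟨c, hc⟩ : IsConj a0 a).symm).trans (isConj_iff.2 ⟨d, hd⟩)

/-- In a group with quotient `A₅` by `K`, an odd normal subgroup lies in `K`. -/
theorem odd_le {K N : Subgroup G} [K.Normal] [N.Normal] (hN : Odd (Nat.card N))
    (e : (G ⧸ K) ≃* alternatingGroup (Fin 5)) : N ≤ K := by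
  haveI : IsSimpleGroup (alternatingGroup (Fin 5)) := alternatingGroup.isSimpleGroup (by simp)
  haveI : Nontrivial (G ⧸ K) := e.toEquiv.nontrivial
  haveI : IsSimpleGroup (G ⧸ K) := IsSimpleGroup.isSimpleGroup_of_surjective e.symm.toMonoidHom e.symm.surjective
  haveI hn : (N.map (QuotientGroup.mk' K)).Normal :=
    Normal.map inferInstance _ (QuotientGroup.mk'_surjective K)
  rcases hn.eq_bot_or_eq_top with hb | ht
  · intro x hx
    have : QuotientGroup.mk' K x ∈ N.map (QuotientGroup.mk' K) := ⟨x, hx, rfl⟩
    rw [hb, mem_bot] at this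
    exact (QuotientGroup.eq_one_iff x).1 this
  · exfalso
    have hd := card_map_dvd N (QuotientGroup.mk' K)
    rw [ht, card_top, Nat.card_congr e.toEquiv, nat_card_alternatingGroup, Nat.card_eq_fintype_card,
      Fintype.card_fin] at hd
    exact (Nat.not_even_iff_odd.2 hN) (even_iff_two_dvd.2 (dvd_trans (by decide) hd))

end Cfsg.Agent.DiffFour
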