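import Cfsg.Agent.Lib.DiffFour.Group
import Cfsg.Agent.Lib.Transfer.Basic

/-!
# The classification
-/

set_option linter.style.haveILetI false
set_option linter.unusedSectionVars false

namespace Cfsg.Agent.DiffFour

open Subgroup Cfsg Cfsg.Agent.Char Cfsg.Agent.Blocks
open scoped Classical ComplexConjugate

universe u
variable {G : Type u} [Group G] [Fintype G]

theorem conclusion {u : G} (h : Hyp u) :
    IsMulCommutative ↥(Cfsg.oddCore G) ∧
      ((Nonempty (G ⧸ Cfsg.oddCore G ≃* Matrix.ProjectiveSpecialLinearGroup (Fin 2) (ZMod 5)) ∧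
          orderOf u = 2) ∨
        (Nonempty (G ⧸ Cfsg.oddCore G ≃* Matrix.SpecialLinearGroup (Fin 2) (ZMod 5)) ∧
          orderOf u = 4)) := by
  haveI : Fact (Nat.Prime 2) := ⟨Nat.prime_two⟩
  have hperf := perfect h
  obtain ⟨⟨χ, h3, hval⟩, hC4⟩ := main h
  obtain ⟨K, hKn, hK, hKmul⟩ := IsCharacter.exists_kernel (irr_isCharacter χ)
  haveI := hKn
  have hone : (χ : G → ℂ) 1 = 3 := by rw [irr_one_eq_charDegree, h3, Nat.cast_ofNat]
  have huK : u ∉ K := fun e => by
    rw [hK, hval, hone] at e
    norm_num at e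
  set π := QuotientGroup.mk' K with hπ
  have hπs : Function.Surjective π := QuotientGroup.mk'_surjective K
  have hmem : ∀ g, π g = 1 ↔ g ∈ K := fun g => QuotientGroup.eq_one_iff g
  have hHperf : commutator (G ⧸ K) = ⊤ := by
    rw [eq_top_iff]
    intro q _
    obtain ⟨g, rfl⟩ := hπs q
    have hmap : (commutator G).map π ≤ commutator (G ⧸ K) := by
      rw [_root_.commutator_def, map_commutator, _root_.commutator_def]
      exact commutator_mono le_top le_top
    exact hmap ⟨g, hperf ▸ mem_top g, rfl⟩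
  -- the preimage of the centraliser
  set CH := centralizer ({π u} : Set (G ⧸ K)) with hCH
  set P := CH.comap π with hP
  have hCP : centralizer ({u} : Set G) ≤ P := fun g hg => by
    rw [hP, mem_comap, hCH, mem_cent, ← map_mul, ← map_mul, mem_cent.1 hg]
  have hPK : ∀ g ∈ P, u⁻¹ * (g * u * g⁻¹) ∈ K := fun g hg => by
    rw [hP, mem_comap, hCH, mem_cent] at hg
    rw [← hmem, map_mul, map_mul, map_mul, map_inv, map_inv, hg, mul_inv_cancel_right,
      inv_mul_cancel]
  have hPcard : Nat.card P = Nat.card CH * Nat.card K := by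
    have h1 := P.card_mul_index
    rw [hP, index_comap_of_surjective _ hπs, card_eq_card_quotient_mul_card_subgroup K,
      ← CH.card_mul_index] at h1
    refine Nat.eq_of_mul_eq_mul_right (Nat.pos_of_ne_zero index_ne_zero_of_finite : 0 < CH.index) ?_
    rw [h1]
    ring
  obtain ⟨hle, hsur⟩ := orbit_in_coset P K hCP hPK
  rw [hC4, hPcard] at hle hsur
  have hCHle : Nat.card CH ≤ 4 := Nat.le_of_mul_le_mul_right hle Nat.card_pos
  -- the image of `u` is an involution
  have hker : ∀ g, (χ : G → ℂ) g = 3 → g ∈ K := fun g hg => (hK g).2 (hg.trans hone.symm)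
  have hclassK : ∀ k ∈ K, (χ : G → ℂ) k = 3 := fun k hk => ((hK k).1 hk).trans hone
  have hord : orderOf (π u) = 2 := by
    have hn1 : orderOf (π u) ≠ 1 := fun e => huK ((hmem u).1 (orderOf_eq_one_iff.1 e))
    have hn4 : orderOf (π u) ≤ 4 :=
      (Nat.le_of_dvd Nat.card_pos (CH.orderOf_dvd_natCard (self_mem_cent _))).trans hCHle
    have hpos : 0 < orderOf (π u) := orderOf_pos _
    have hn := newton hperf h3 u
    rw [hval] at hn
    have hpw : u ^ orderOf (π u) ∈ K := by rw [← hmem, map_pow, pow_orderOf_eq_one]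
    rcases (show orderOf (π u) = 2 ∨ orderOf (π u) = 3 ∨ orderOf (π u) = 4 by omega) with e | e | e
    · exact e
    · exfalso
      rw [e] at hpw
      have e3 : (χ : G → ℂ) (u * u * u) = 3 := by
        rw [← pow_three']; exact hclassK _ hpw
      have e2 : (χ : G → ℂ) (u * u) = -1 := by
        rw [show u * u = u ^ 3 * u⁻¹ by rw [pow_succ, mul_inv_cancel_right, sq], hKmul _ hpw, IsCharacter.inv (irr_isCharacter χ),
          hval, map_neg, map_one]
      rw [e2, e3] at hn
      norm_num at hn
    · exfalso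
      rw [e] at hpw
      have e3 : (χ : G → ℂ) (u * u * u) = -1 := by
        rw [show u * u * u = u ^ 4 * u⁻¹ by rw [pow_succ, mul_inv_cancel_right, pow_three'], hKmul _ hpw, IsCharacter.inv (irr_isCharacter χ),
          hval, map_neg, map_one]
      rw [e3] at hn
      have e2 : u * u ∈ K := hker _ (by linear_combination hn / 3)
      rw [← hmem, map_mul, ← sq] at e2
      have := orderOf_dvd_of_pow_eq_one e2
      rw [e] at this
      norm_num at this
  -- the quotient
  have hHZ : ∀ z : G ⧸ K, (∀ g, g * z = z * g) → z * z = 1 → z = 1 := by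
    intro z hz hz2
    obtain ⟨g, rfl⟩ := hπs z
    rw [← map_mul, hmem] at hz2
    have hn := newton hperf h3 g
    rw [hclassK _ hz2, hKmul _ hz2 g] at hn
    -- `π g` is central, so it acts as a scalar
    have hsc : (χ : G → ℂ) g = 3 ∨ (χ : G → ℂ) g = -3 := by
      obtain ⟨n, ρ, hρ, hχ⟩ := χ.2
      haveI := hρ
      have hcomm : ∀ x, ρ x ∘ₗ ρ g = ρ g ∘ₗ ρ x := fun x => by
        obtain ⟨k, hk, e⟩ : ∃ k ∈ K, x * g = k * (g * x) :=
          ⟨x * g * (g * x)⁻¹, by rw [← hmem, map_mul, map_mul, map_inv, map_mul, hz (π x),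
            mul_inv_cancel], by group⟩
        have hk1 : ρ k = 1 := by
          have h1 := (hK k).1 hk
          rw [← hχ, Representation.char_one] at h1
          rw [Module.End.one_eq_id]
          exact (char_eq_degree_iff ρ k).1 h1
        show ρ x * ρ g = ρ g * ρ x
        rw [← map_mul, e, map_mul, hk1, one_mul, map_mul]
      obtain ⟨c, hc⟩ := schur_scalar ρ (ρ g)
        fun x w => (LinearMap.congr_fun (hcomm x) w).symm
      have h1 : (χ : G → ℂ) g = c * 3 := by
        have h1' := hone
        rw [← hχ, Representation.char_one] at h1'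
        rw [← hχ, Representation.character, hc, map_smul, LinearMap.trace_id, smul_eq_mul, h1']
      have h2 : (χ : G → ℂ) (g * g) = c * c * 3 := by
        have h1' := hone
        rw [← hχ, Representation.char_one] at h1'
        rw [← hχ, Representation.character, map_mul, hc, smul_mul_smul_comm, Module.End.mul_eq_comp,
          LinearMap.id_comp, map_smul, LinearMap.trace_id, smul_eq_mul, h1']
      rw [hclassK _ hz2] at h2
      rcases mul_self_eq_one_iff.1 (show c * c = 1 by linear_combination -h2 / 3) with e | e <;>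
        simp [h1, e]
    rcases hsc with e | e
    · exact (hmem g).2 (hker g e)
    · rw [e] at hn
      norm_num at hn
  obtain ⟨⟨eA⟩, hCH4, hCHsq⟩ := equiv_a5 hHperf (π u) hord hCHle hHZ
  rw [hCH4] at hPcard hsur
  have hsur' := hsur rfl
  -- Sylow subgroups
  obtain ⟨S₀, hS₀⟩ := (IsPGroup.of_card (n := 2) (by
    rw [Nat.card_congr (subgroupOfEquivOfLe hCP).toEquiv, hC4]
    norm_num) : IsPGroup 2 ((centralizer ({u} : Set G)).subgroupOf P)).exists_le_sylow
  set S := (S₀ : Subgroup P).map P.subtype with hS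
  have hSP : S ≤ P := map_subtype_le _
  have hCS : centralizer ({u} : Set G) ≤ S := fun g hg =>
    ⟨⟨g, hCP hg⟩, hS₀ (mem_subgroupOf.2 hg), rfl⟩
  have huS : u ∈ S := hCS (self_mem_cent u)
  have hSp : IsPGroup 2 S := S₀.2.map P.subtype
  set v := (Nat.card K).factorization 2 with hv
  have hScard : Nat.card S = 4 * 2 ^ v := by
    rw [hS, card_map_of_injective P.subtype_injective, S₀.card_eq_multiplicity, hPcard,
      Nat.factorization_mul (by norm_num) Nat.card_pos.ne', Finsupp.add_apply, pow_add, ← hv,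
      show (4 : ℕ) = 2 ^ 2 by norm_num, Nat.prime_two.factorization_pow, Finsupp.single_eq_same]
  set T := S ⊓ K with hT
  haveI hTn : (T.subgroupOf S).Normal := by
    rw [hT, inf_subgroupOf_left]; infer_instance
  obtain ⟨i, hi⟩ := IsPGroup.iff_card.1 (hSp.to_le (inf_le_left : T ≤ S))
  have hiv : i ≤ v := (Nat.prime_two.pow_dvd_iff_le_factorization Nat.card_pos.ne').1
    (hi ▸ card_dvd_of_le (inf_le_right : T ≤ K))
  have himg : Nat.card S = Nat.card T * Nat.card (S.map π) := by
    have h1 := card_eq_card_quotient_mul_card_subgroup (π.comp S.subtype).ker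
    rw [Nat.card_congr (QuotientGroup.quotientKerEquivRange (π.comp S.subtype)).toEquiv,
      MonoidHom.range_comp, range_subtype] at h1
    rw [h1, mul_comm]
    congr 1
    refine (Nat.card_congr ?_)
    exact
      { toFun := fun x => ⟨(x.1 : G), x.1.2, (hmem _).1 (MonoidHom.mem_ker.1 x.2)⟩
        invFun := fun x => ⟨⟨x.1, x.2.1⟩, MonoidHom.mem_ker.2 ((hmem _).2 x.2.2)⟩
        left_inv := fun _ => rfl
        right_inv := fun _ => rfl }
  have hSmap : S.map π ≤ CH := map_le_iff_le_comap.2 hSP
  have hTv : Nat.card T = 2 ^ v ∧ Nat.card (S.map π) = 4 := by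
    have h1 : Nat.card (S.map π) ≤ 4 := hCH4 ▸ card_le_of_le hSmap
    have h2 : Nat.card T ≤ 2 ^ v := hi ▸ Nat.pow_le_pow_right (by norm_num) hiv
    have h3 : 0 < 2 ^ v := by positivity
    rw [hScard] at himg
    constructor <;> nlinarith
  have hSimg : S.map π = CH :=
    eq_of_le_of_card_ge hSmap (by rw [hTv.2, hCH4])
  -- every element of `S` outside `T` is conjugate to `u`
  have hconj : ∀ x ∈ S, x ∉ K → IsConj u x := by
    intro x hx hxK
    have hxC : π x ∈ CH := hSmap ⟨x, hx, rfl⟩
    have hx1 : π x ≠ 1 := fun e => hxK ((hmem x).1 e)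
    have hu1 : π u ≠ 1 := fun e => huK ((hmem u).1 e)
    have hxx : π x * π x = 1 := by rw [← sq]; exact hCHsq _ hxC
    have huu : π u * π u = 1 := by rw [← sq, ← hord, pow_orderOf_eq_one]
    obtain ⟨c, hc⟩ := isConj_iff.1 (a5_invol_conj (eA (π u)) (by rw [← map_mul, huu, map_one])
      (fun e => hu1 (eA.injective (e.trans (map_one eA).symm))) (eA (π x))
      (by rw [← map_mul, hxx, map_one]) (fun e => hx1 (eA.injective (e.trans (map_one eA).symm))))
    obtain ⟨g, hg⟩ := hπs (eA.symm c)
    have hgx : π g * π u * (π g)⁻¹ = π x := by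
      refine eA.injective ?_
      rw [map_mul, map_mul, map_inv, hg, MulEquiv.apply_symm_apply, hc]
    have hk : u⁻¹ * (g⁻¹ * x * g) ∈ K := by
      rw [← hmem, map_mul, map_mul, map_mul, map_inv, map_inv, ← hgx]
      group
    obtain ⟨g', -, hg'⟩ := hsur' _ hk
    refine isConj_iff.2 ⟨g * g', ?_⟩
    rw [mul_inv_rev, show g * g' * u * (g'⁻¹ * g⁻¹) = g * (g' * u * g'⁻¹) * g⁻¹ by group, hg']
    group
  have hxcent : ∀ x ∈ S, x ∉ K → Nat.card (centralizer ({x} : Set G)) = 4 ∧
      orderOf x = orderOf u := by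
    intro x hx hxK
    obtain ⟨g, hg⟩ := isConj_iff.1 (hconj x hx hxK)
    constructor
    · rw [← hC4]
      refine (Nat.card_congr ((MulAut.conj g).toEquiv.subtypeEquiv fun a => ?_)).symm
      rw [mem_cent, mem_cent]
      show a * u = u * a ↔ MulAut.conj g a * x = x * MulAut.conj g a
      rw [show x = MulAut.conj g u from hg.symm, ← map_mul, ← map_mul,
        (MulAut.conj g).injective.eq_iff]
    · rw [← hg]
      exact orderOf_injective (MulAut.conj g).toMonoidHom (MulAut.conj g).injective u
  have hu4 : u ^ 4 = 1 := by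
    have := (centralizer ({u} : Set G)).orderOf_dvd_natCard (self_mem_cent u)
    rw [hC4] at this
    exact orderOf_dvd_iff_pow_eq_one.1 this
  have hu2K : u * u ∈ K := by
    rw [← hmem, map_mul, ← sq, ← hord, pow_orderOf_eq_one]
  set O := Cfsg.oddCore G with hO
  have hOodd : Odd (Nat.card O) := Nat.coprime_two_right.1 (PBasic.pPrimeCore_coprime 2 G)
  haveI hOn : O.Normal := FittingCores.pPrimeCore_normal 2
  have hOK : O ≤ K := odd_le hOodd eA
  have hHcard : Nat.card (G ⧸ K) = 60 := by
    rw [Nat.card_congr eA.toEquiv, nat_card_alternatingGroup, Nat.card_eq_fintype_card,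
      Fintype.card_fin]
    rfl
  rcases Nat.eq_zero_or_pos v with hv0 | hvpos
  · -- `K` has odd order
    have hKodd : Odd (Nat.card K) := by
      rw [← Nat.not_even_iff_odd, even_iff_two_dvd]
      intro hd
      have := Nat.prime_two.factorization_pos_of_dvd Nat.card_pos.ne' hd
      omega
    have hKO : K = O := le_antisymm (le_sSup ⟨hKn, Nat.coprime_two_right.2 hKodd⟩) hOK
    have hinf : ∀ w ∈ K, w * u = u * w → w = 1 := by
      intro w hw hwu
      have h1 := Nat.dvd_gcd (K.orderOf_dvd_natCard hw)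
        ((centralizer ({u} : Set G)).orderOf_dvd_natCard (mem_cent.2 hwu))
      rw [hC4, Nat.Coprime.gcd_eq_one ((Nat.coprime_two_right.2 hKodd).pow_right 2),
        Nat.dvd_one, orderOf_eq_one_iff] at h1
      exact h1
    have hu2 : u * u = 1 := hinf _ hu2K (mul_assoc u u u)
    have hordu : orderOf u = 2 := orderOf_eq_prime (by rw [sq, hu2]) h.1
    obtain ⟨-, hcomm⟩ := inverts K u (fun w hw => hKn.conj_mem w hw u)
      (fun w _ => by rw [hu2, one_mul, mul_one])
      (fun w hw e => hinf w hw (mul_inv_eq_iff_eq_mul.1 e).symm)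
    rw [hKO] at hcomm
    refine ⟨hcomm, Or.inl ⟨?_, hordu⟩⟩
    haveI : Fact (Nat.Prime 5) := ⟨by norm_num⟩
    obtain ⟨e5⟩ := S0253.result (F := ZMod 5) (ZMod.card 5)
    exact ⟨(QuotientGroup.quotientMulEquivOfEq hKO.symm).trans (eA.trans e5.symm)⟩
  -- `K` has even order
  have hT1 : 1 < Nat.card T := by
    rw [hTv.1]
    exact Nat.one_lt_two_pow hvpos.ne'
  obtain ⟨z, hzT, hz1, hzc⟩ : ∃ z ∈ T, z ≠ 1 ∧ ∀ s ∈ S, s * z = z * s := by
    have hTle : T ≤ S := inf_le_left
    have hTp : IsPGroup 2 (ConjAct S) := hSp.of_equiv ConjAct.toConjAct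
    have hdvd : 2 ∣ Nat.card (T.subgroupOf S) := by
      rw [Nat.card_congr (subgroupOfEquivOfLe hTle).toEquiv, hTv.1]
      exact dvd_pow_self 2 hvpos.ne'
    obtain ⟨z, hz, hne⟩ := hTp.exists_fixed_point_of_prime_dvd_card_of_fixed_point
      (T.subgroupOf S) hdvd (a := 1) (fun s => smul_one s)
    refine ⟨(z : S), z.2, fun e => hne (Subtype.ext (Subtype.ext e.symm)), fun s hs => ?_⟩
    have h1 := congrArg (fun t : T.subgroupOf S => ((t : S) : G))
      (hz (ConjAct.toConjAct (⟨s, hs⟩ : S)))
    have h2 : s * ((z : S) : G) * s⁻¹ = ((z : S) : G) := h1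
    exact mul_inv_eq_iff_eq_mul.1 h2
  have hzK : z ∈ K := hzT.2
  have hzS : z ∈ S := hzT.1
  have hfour : ∀ x ∈ S, x ∉ K → ∀ w, w * x = x * w → w = 1 ∨ w = z ∨ w = x ∨ w = x * z := by
    intro x hx hxK w hw
    set F : Finset G := {1, z, x, x * z} with hF
    have hxzK : x * z ∉ K := fun e => hxK (by simpa using K.mul_mem e (K.inv_mem hzK))
    have hFc : F.card = 4 := by
      rw [hF, Finset.card_insert_of_notMem, Finset.card_insert_of_notMem,
        Finset.card_insert_of_notMem, Finset.card_singleton]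
      · simp [hz1]
      · simp only [Finset.mem_insert, Finset.mem_singleton, not_or]
        exact ⟨fun e => hxK (e ▸ hzK), fun e => hxzK (e ▸ hzK)⟩
      · simp only [Finset.mem_insert, Finset.mem_singleton, not_or]
        exact ⟨hz1.symm, fun e => hxK (e ▸ K.one_mem), fun e => hxzK (e ▸ K.one_mem)⟩
    set D := Finset.univ.filter fun g => g ∈ centralizer ({x} : Set G) with hD
    have hDc : D.card = 4 := by
      rw [← (hxcent x hx hxK).1, Nat.card_eq_fintype_card, ← Fintype.card_subtype]
    have hsub : F ⊆ D := by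
      intro y hy
      simp only [hD, Finset.mem_filter, Finset.mem_univ, true_and, mem_cent]
      simp only [hF, Finset.mem_insert, Finset.mem_singleton] at hy
      rcases hy with rfl | rfl | rfl | rfl
      · simp
      · exact (hzc x hx).symm
      · rfl
      · rw [mul_assoc, ← hzc x hx]
    have hmemF : w ∈ F := by
      rw [Finset.eq_of_subset_of_card_le hsub (by omega)]
      simp [hD, mem_cent, hw]
    simpa [hF] using hmemF
  -- a second coset
  obtain ⟨y, hyS, hyK, huyK⟩ : ∃ y ∈ S, y ∉ K ∧ u * y ∉ K := by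
    by_contra hcon
    push Not at hcon
    have hsub : (CH : Set (G ⧸ K)) ⊆ {1, π u} := by
      intro q hq
      rw [SetLike.mem_coe, ← hSimg] at hq
      obtain ⟨y, hy, rfl⟩ := hq
      by_cases hyK : y ∈ K
      · exact Or.inl ((hmem y).2 hyK)
      · right
        have h1 := (hmem _).2 (hcon y hy hyK)
        rw [map_mul] at h1
        have h2 : π u * π u = 1 := by rw [← sq, ← hord, pow_orderOf_eq_one]
        exact mul_left_cancel (h1.trans h2.symm)
    have h4 := Set.ncard_le_ncard hsub
    rw [← Nat.card_coe_set_eq, show Nat.card ↥(CH : Set (G ⧸ K)) = Nat.card CH from rfl, hCH4] at h4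
    have := Set.ncard_insert_le (1 : G ⧸ K) {π u}
    rw [Set.ncard_singleton] at this
    omega
  have hu2ne : u * u ≠ 1 := by
    intro hu2
    have hordu : orderOf u = 2 := orderOf_eq_prime (by rw [sq, hu2]) h.1
    have hsq : ∀ x ∈ S, x ∉ K → x * x = 1 := fun x hx hxK => by
      rw [← sq, ← hordu, ← (hxcent x hx hxK).2, pow_orderOf_eq_one]
    have hcomm : y * u = u * y := by
      have e1 := hsq _ (S.mul_mem huS hyS) huyK
      have e2 := hsq y hyS hyK
      calc y * u = u * (u * y * (u * y)) * y := by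
            rw [show u * (u * y * (u * y)) * y = (u * u) * (y * u * (y * y)) by group, hu2, e2]
            group
        _ = _ := by rw [e1, mul_one]
    rcases hfour u huS huK y hcomm with e | e | e | e
    · exact hyK (e ▸ K.one_mem)
    · exact hyK (e ▸ hzK)
    · exact huyK (by rw [e]; exact hu2K)
    · exact huyK (by rw [e, ← mul_assoc]; exact K.mul_mem hu2K hzK)
  have hordu : orderOf u = 4 := by
    refine orderOf_eq_prime_pow (p := 2) (n := 1) ?_ hu4
    rw [pow_one, sq]
    exact hu2ne
  have hsq : ∀ x ∈ S, x ∉ K → x * x = z := by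
    intro x hx hxK
    have hne : x * x ≠ 1 := fun e => by
      have h1 : orderOf x ∣ 2 := orderOf_dvd_of_pow_eq_one (by rw [sq, e])
      rw [(hxcent x hx hxK).2, hordu] at h1
      norm_num at h1
    have hxxK : x * x ∈ K := by
      rw [← hmem, map_mul, ← sq]
      exact hCHsq _ (hSmap ⟨x, hx, rfl⟩)
    rcases hfour x hx hxK (x * x) (mul_assoc x x x) with e | e | e | e
    · exact absurd e hne
    · exact e
    · exact absurd (e ▸ hxxK) hxK
    · have h1 : x = z := mul_left_cancel e
      exact absurd (h1 ▸ hzK) hxK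
  have hz2 : z * z = 1 := by
    rw [← hsq u huS huK]
    rw [← hu4]
    simp [pow_succ, mul_assoc]
  have hswap : ∀ t ∈ T, (y * t) * u = u * (y * t) * z := by
    intro t ht
    have hytS : y * t ∈ S := S.mul_mem hyS ht.1
    have hytK : y * t ∉ K := fun e => hyK (by simpa using K.mul_mem e (K.inv_mem ht.2))
    have huytK : u * (y * t) ∉ K := fun e => huyK (by
      simpa [mul_assoc] using K.mul_mem e (K.inv_mem ht.2))
    have e1 := hsq u huS huK
    have e2 := hsq _ hytS hytK
    have e3 := hsq _ (S.mul_mem huS hytS) huytK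
    set b := y * t
    calc b * u = u⁻¹ * (u * b * (u * b)) * b⁻¹ := by group
      _ = u⁻¹ * z * b⁻¹ := by rw [e3]
      _ = u⁻¹ * (u * u) * b⁻¹ := by rw [e1]
      _ = u * b⁻¹ := by group
      _ = u * (b * z) := by
          congr 1
          rw [inv_eq_iff_mul_eq_one, ← mul_assoc, e2, hz2]
      _ = _ := (mul_assoc _ _ _).symm
  have hTz : ∀ t ∈ T, t = 1 ∨ t = z := by
    intro t ht
    have e0 := hswap 1 T.one_mem
    have et := hswap t ht
    rw [mul_one] at e0
    have hcom : t * u = u * t := by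
      have h1 : y * (t * u) = y * (u * t) := by
        calc y * (t * u) = u * (y * t) * z := by rw [← et, mul_assoc]
          _ = u * y * (t * z) := by group
          _ = u * y * (z * t) := by rw [hzc t ht.1]
          _ = (u * y * z) * t := by group
          _ = (y * u) * t := by rw [e0]
          _ = _ := by rw [mul_assoc]
      exact mul_left_cancel h1
    rcases hfour u huS huK t hcom with e | e | e | e
    · exact Or.inl e
    · exact Or.inr e
    · exact absurd (e ▸ ht.2) huK
    · exact absurd (e ▸ ht.2) (fun h' => huK (by simpa using K.mul_mem h' (K.inv_mem hzK)))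
  have hv1 : v = 1 := by
    have hsub : (T : Set G) ⊆ {1, z} := fun t ht => hTz t ht
    have h4 := Set.ncard_le_ncard hsub
    rw [← Nat.card_coe_set_eq, show Nat.card ↥(T : Set G) = Nat.card T from rfl, hTv.1] at h4
    have := Set.ncard_insert_le (1 : G) {z}
    rw [Set.ncard_singleton] at this
    have h2 : 2 ^ v ≤ 2 ^ 1 := by omega
    have := (Nat.pow_le_pow_iff_right (by norm_num : 1 < 2)).1 h2
    omega
  -- the normal `2`-complement of `K`
  obtain ⟨hOidx, hOcard⟩ : O.relIndex K = 2 ∧ Nat.card K = Nat.card O * 2 := by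
    obtain ⟨Q⟩ : Nonempty (Sylow 2 K) := inferInstance
    have hQ : Nat.card (Q : Subgroup K) = 2 := by rw [Q.card_eq_multiplicity, ← hv, hv1, pow_one]
    haveI : IsCyclic (Q : Subgroup K) := isCyclic_of_prime_card hQ
    obtain ⟨R, N, hN, hcompl⟩ :=
      HSub.hasNormalPComplement_of_cyclic (G := K) Q fun q hq _ => hq.two_le
    haveI := hN
    have hR : Nat.card (R : Subgroup K) = 2 := by rw [R.card_eq_multiplicity, ← hv, hv1, pow_one]
    have hNidx : N.index = 2 := hcompl.symm.index_eq_card.trans hR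
    have hNodd : Odd (Nat.card N) := by
      rw [← Nat.not_even_iff_odd, even_iff_two_dvd]
      intro hd
      have h1 := N.card_mul_index
      rw [hNidx] at h1
      have h4 : 2 ^ 2 ∣ Nat.card K := by
        rw [← h1, pow_two]; exact Nat.mul_dvd_mul_right hd 2
      have := (Nat.prime_two.pow_dvd_iff_le_factorization Nat.card_pos.ne').1 h4
      omega
    set M := N.map K.subtype with hM
    have hMK : M ≤ K := map_subtype_le N
    have hMsub : M.subgroupOf K = N := by
      rw [hM]
      exact comap_map_eq_self_of_injective K.subtype_injective N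
    have hMidx : M.relIndex K = 2 := by rw [relIndex, hMsub, hNidx]
    have hMcard : Nat.card M = Nat.card N := card_map_of_injective K.subtype_injective
    have hmemM : ∀ x ∈ K, Odd (orderOf x) → x ∈ M := by
      intro x hx hodd
      obtain ⟨m, hm⟩ := hodd
      refine ⟨⟨x, hx⟩, ?_, rfl⟩
      have h2x : (⟨x, hx⟩ : K) ^ 2 ∈ N := hNidx ▸ N.pow_index_mem _
      have e : (⟨x, hx⟩ : K) = (((⟨x, hx⟩ : K) ^ 2) ^ m)⁻¹ := by
        refine Subtype.ext ?_
        simp only [InvMemClass.coe_inv, SubmonoidClass.coe_pow]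
        rw [eq_inv_iff_mul_eq_one, ← pow_mul, ← pow_succ', ← hm, pow_orderOf_eq_one]
      exact e ▸ N.inv_mem (N.pow_mem h2x m)
    haveI hMn : M.Normal := ⟨fun n hn g => hmemM _ (hKn.conj_mem n (hMK hn) g) (by
      rw [show g * n * g⁻¹ = MulAut.conj g n from rfl,
        show orderOf (MulAut.conj g n) = orderOf n from
          orderOf_injective (MulAut.conj g).toMonoidHom (MulAut.conj g).injective n]
      exact (hMcard ▸ hNodd).of_dvd_nat (M.orderOf_dvd_natCard hn))⟩
    have hMO : M = O := le_antisymm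
      (le_sSup ⟨hMn, Nat.coprime_two_right.2 (hMcard ▸ hNodd)⟩) fun x hx =>
      hmemM x (hOK hx) (hOodd.of_dvd_nat (O.orderOf_dvd_natCard hx))
    rw [← hMO]
    exact ⟨hMidx, by rw [hMcard, ← hNidx, N.card_mul_index]⟩
  have hOS : ∀ x ∈ S, x ∈ O → x = 1 := by
    intro x hx hxO
    obtain ⟨j, hj⟩ := hSp ⟨x, hx⟩
    have h1 := Nat.dvd_gcd (orderOf_dvd_of_pow_eq_one (congrArg Subtype.val hj : x ^ 2 ^ j = 1))
      (O.orderOf_dvd_natCard hxO)
    rw [Nat.Coprime.gcd_eq_one ((Nat.coprime_two_left.2 hOodd).pow_left j), Nat.dvd_one,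
      orderOf_eq_one_iff] at h1
    exact h1
  refine ⟨?_, Or.inr ⟨?_, hordu⟩⟩
  · -- `z` inverts `O`
    set W := O ⊓ centralizer ({z} : Set G) with hW
    have hinvW : ∀ x ∈ S, x ∉ K → ∀ w ∈ W, x * w * x⁻¹ = w⁻¹ := by
      intro x hx hxK
      refine (inverts W x (fun w hw => ⟨hOn.conj_mem w hw.1 x, mem_cent.2 ?_⟩)
        (fun w hw => ?_) fun w hw e => ?_).1
      · calc x * w * x⁻¹ * z = x * (w * z) * x⁻¹ := by
              rw [mul_assoc (x * w), ← (show z * x⁻¹ = x⁻¹ * z from
                (hzc x⁻¹ (S.inv_mem hx)).symm)]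
              group
          _ = x * (z * w) * x⁻¹ := by rw [mem_cent.1 hw.2]
          _ = _ := by rw [← mul_assoc x z w, hzc x hx]; group
      · rw [hsq x hx hxK]
        exact (mem_cent.1 hw.2).symm
      · rcases hfour x hx hxK w (mul_inv_eq_iff_eq_mul.1 e).symm with e | e | e | e
        · exact e
        · exact absurd (e ▸ hw.1) fun h' => hz1 (hOS z hzS h')
        · exact absurd (hOK (e ▸ hw.1)) hxK
        · exact absurd (K.mul_mem (hOK (e ▸ hw.1)) (K.inv_mem hzK)) (by simpa using hxK)
    have hW1 : ∀ w ∈ W, w = 1 := by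
      intro w hw
      have e1 := hinvW _ (S.mul_mem huS hyS) huyK w hw
      have e2 := hinvW y hyS hyK w hw
      have e3 := hinvW u huS huK _ (W.inv_mem hw)
      rw [inv_inv] at e3
      have e4 : w = w⁻¹ := by
        rw [← e1, show u * y * w * (u * y)⁻¹ = u * (y * w * y⁻¹) * u⁻¹ by group, e2, e3]
      have h2 : w ^ 2 = 1 := by
        rw [sq]
        nth_rewrite 2 [e4]
        rw [mul_inv_cancel]
      have h1 := Nat.dvd_gcd (orderOf_dvd_of_pow_eq_one h2) (O.orderOf_dvd_natCard hw.1)
      rw [Nat.Coprime.gcd_eq_one (Nat.coprime_two_left.2 hOodd), Nat.dvd_one,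
        orderOf_eq_one_iff] at h1
      exact h1
    exact (inverts O z (fun w hw => hOn.conj_mem w hw z)
      (fun w _ => by rw [hz2, one_mul, mul_one])
      (fun w hw e => hW1 w ⟨hw, mem_cent.2 (mul_inv_eq_iff_eq_mul.1 e).symm⟩)).2
  -- the quotient by `O`
  have hidx : Nat.card (G ⧸ O) = 120 := by
    have h1 := card_eq_card_quotient_mul_card_subgroup O
    have h2 := card_eq_card_quotient_mul_card_subgroup K
    rw [h2, hHcard, hOcard] at h1
    have : Nat.card O * 120 = Nat.card O * Nat.card (G ⧸ O) := by linarith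
    exact (Nat.eq_of_mul_eq_mul_left Nat.card_pos this).symm
  refine S3378.result.1 (G ⧸ O) hidx ?_ ?_
  · intro hsol
    let f : G ⧸ O →* G ⧸ K := QuotientGroup.lift O π fun x hx => (hmem x).2 (hOK hx)
    haveI : Group.IsSolvable (G ⧸ K) := Group.isSolvable_of_surjective (f := f) fun q => by
      obtain ⟨g, rfl⟩ := hπs q
      exact ⟨(g : G ⧸ O), rfl⟩
    haveI : Nontrivial (G ⧸ K) := Finite.one_lt_card_iff_nontrivial.1 (by omega)
    exact (Group.IsSolvable.commutator_lt_top_of_nontrivial (G ⧸ K)).ne hHperf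
  · intro Q
    set μ := (QuotientGroup.mk' O).comp S.subtype with hμ
    have hμinj : Function.Injective μ := by
      refine (MonoidHom.ker_eq_bot_iff μ).1 ((Subgroup.eq_bot_iff_forall _).2 fun x hx => ?_)
      exact Subtype.ext (hOS x x.2 ((QuotientGroup.eq_one_iff (x : G)).1 hx))
    have hS8 : Nat.card S = 8 := by rw [hScard, hv1]; norm_num
    have hRc : Nat.card μ.range = 8 := by
      rw [← Nat.card_congr (MonoidHom.ofInjective hμinj).toEquiv, hS8]
    let R : Sylow 2 (G ⧸ O) := Sylow.ofCard μ.range (by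
      rw [hRc, hidx]
      have : (120 : ℕ).factorization 2 = 3 := by
        rw [show (120 : ℕ) = 2 ^ 3 * 15 by norm_num,
          Nat.factorization_mul (by norm_num) (by norm_num), Finsupp.add_apply,
          Nat.prime_two.factorization_pow, Finsupp.single_eq_same,
          Nat.factorization_eq_zero_of_not_dvd (by norm_num)]
      rw [this]
      norm_num)
    have hkey : ∀ x : S, (x : G) ∈ K → (x : G) = 1 ∨ (x : G) = z :=
      fun x hx => hTz _ ⟨x.2, hx⟩
    obtain ⟨eQ⟩ : Nonempty (S ≃* QuaternionGroup 2) := by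
      refine LBMon.q8_of_unique hS8 (fun x => Subtype.ext ?_) fun a b ha hb ha2 hb2 => ?_
      · rw [SubmonoidClass.coe_pow, OneMemClass.coe_one, show 4 = 2 * 2 from rfl, pow_mul, sq, sq]
        by_cases hx : (x : G) ∈ K
        · rcases hkey x hx with e | e <;> simp [e, hz2]
        · rw [hsq _ x.2 hx, hz2]
      · have hinK : ∀ a : S, a ^ 2 = 1 → (a : G) ∈ K := fun a ha2 => by
          by_contra hK'
          have e := congrArg Subtype.val ha2
          rw [SubmonoidClass.coe_pow, OneMemClass.coe_one, sq, hsq _ a.2 hK'] at e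
          exact hz1 e
        exact Subtype.ext (((hkey a (hinK a ha2)).resolve_left fun e => ha (Subtype.ext e)).trans
          ((hkey b (hinK b hb2)).resolve_left fun e => hb (Subtype.ext e)).symm)
    exact ⟨((Q.equiv R).trans (MonoidHom.ofInjective hμinj).symm).trans eQ⟩

end Cfsg.Agent.DiffFour
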